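import Cfsg.Agent.Characters.Classes
import Cfsg.Agent.Characters.Integrality
import Cfsg.Prelude.Def_Blocks

/-!
# Kernels of irreducible characters and the principal character

`CfsgLib.PrincipalBlock.trivChar` is the principal character; `charKer χ` is the kernel of a character as
a normal subgroup.
-/

set_option autoImplicit false
set_option linter.unusedSectionVars false

namespace CfsgLib.PrincipalBlock

open Cfsg CfsgLib.Characters
open scoped ComplexConjugate

universe u

variable {G : Type u} [Group G] [Fintype G]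

theorem isCharacter_one : Cfsg.IsCharacter G (fun _ : G => (1 : ℂ)) := by
  refine ⟨1, Representation.trivial ℂ G (Fin 1 → ℂ), funext fun g => ?_⟩
  simp [Representation.character, Representation.trivial]

theorem classInner_one_self :
    Cfsg.classInner (fun _ : G => (1 : ℂ)) (fun _ : G => (1 : ℂ)) = 1 := by
  simp [Cfsg.classInner]

/-- The principal character. -/
noncomputable def trivChar (G : Type u) [Group G] [Fintype G] : IrrCharacter G :=
  ⟨fun _ => 1, isIrr_of_classInner_self isCharacter_one classInner_one_self⟩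

@[simp] theorem trivChar_apply (g : G) : (trivChar G : G → ℂ) g = 1 := rfl

/-- A character takes the value of its degree only on the kernel of the representation. -/
theorem rep_eq_one_of_char_eq {n : ℕ} (ρ : Representation ℂ G (Fin n → ℂ)) {g : G}
    (h : ρ.character g = ρ.character 1) : ρ g = 1 := by
  obtain ⟨b, μ, hb⟩ := exists_eigenbasis ρ g
  have hchar : ρ.character g = ∑ i, μ i := by
    rw [Representation.character, LinearMap.trace_eq_matrix_trace ℂ b, Matrix.trace]
    refine Finset.sum_congr rfl fun i _ => ?_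
    rw [Matrix.diag, LinearMap.toMatrix_apply, (hb i).1]; simp
  rw [hchar, Representation.char_one] at h
  have hn : ∀ i, ‖μ i‖ = 1 := fun i =>
    Complex.norm_eq_one_of_pow_eq_one (hb i).2 (orderOf_pos g).ne'
  have hsum : ∑ i, (1 - (μ i).re) = 0 := by
    rw [Finset.sum_sub_distrib, ← Complex.re_sum, h]
    simp
  have hle : ∀ i, 0 ≤ 1 - (μ i).re := fun i =>
    sub_nonneg.mpr ((Complex.re_le_norm _).trans (hn i).le)
  have hre : ∀ i, (μ i).re = 1 := fun i =>
    (sub_eq_zero.mp ((Finset.sum_eq_zero_iff_of_nonneg fun i _ => hle i).mp hsum i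
      (Finset.mem_univ i))).symm
  have hμ : ∀ i, μ i = 1 := fun i => by
    have him : (μ i).im = 0 := by
      have h2 := Complex.sq_norm (μ i)
      rw [hn i, Complex.normSq_apply, hre i] at h2
      exact mul_self_eq_zero.mp (by linarith)
    exact Complex.ext (hre i) him
  refine b.ext fun i => ?_
  rw [(hb i).1, hμ i, one_smul]; rfl

theorem apply_mul_of_eq_one (χ : IrrCharacter G) {k : G} (hk : (χ : G → ℂ) k = (χ : G → ℂ) 1)
    (x : G) : (χ : G → ℂ) (x * k) = (χ : G → ℂ) x := by
  obtain ⟨n, ρ, -, hρ⟩ := χ.2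
  rw [← hρ] at hk ⊢
  rw [Representation.character, map_mul, rep_eq_one_of_char_eq ρ hk, mul_one]
  rfl

/-- The kernel of an irreducible character. -/
noncomputable def charKer (χ : IrrCharacter G) : Subgroup G where
  carrier := {g | (χ : G → ℂ) g = (χ : G → ℂ) 1}
  one_mem' := rfl
  mul_mem' := fun {a b} ha hb => by
    simp only [Set.mem_setOf_eq] at ha hb ⊢
    rw [apply_mul_of_eq_one χ hb, ha]
  inv_mem' := fun {a} ha => by
    simp only [Set.mem_setOf_eq] at ha ⊢
    rw [character_inv (isCharacter_of_isIrr χ.2), ha,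
      ← character_inv (isCharacter_of_isIrr χ.2), inv_one]

theorem mem_charKer {χ : IrrCharacter G} {g : G} :
    g ∈ charKer χ ↔ (χ : G → ℂ) g = (χ : G → ℂ) 1 := Iff.rfl

instance charKer_normal (χ : IrrCharacter G) : (charKer χ).Normal :=
  ⟨fun g hg x => by
    rw [mem_charKer, isClassFunction_of_isIrr χ.2 g x]
    exact hg⟩

/-- The kernel of a set of irreducible characters, as a subgroup. -/
noncomputable def setKer (A : Set (IrrCharacter G)) : Subgroup G := ⨅ χ ∈ A, charKer χ

theorem mem_setKer {A : Set (IrrCharacter G)} {g : G} :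
    g ∈ setKer A ↔ g ∈ Cfsg.blockKer A := by
  simp [setKer, Subgroup.mem_iInf, mem_charKer, Cfsg.blockKer]

instance setKer_normal (A : Set (IrrCharacter G)) : (setKer A).Normal :=
  ⟨fun g hg x => by
    simp only [setKer, Subgroup.mem_iInf] at hg ⊢
    exact fun χ hχ => (charKer_normal χ).conj_mem g (hg χ hχ) x⟩

/-- The only irreducible character with kernel the whole group is the principal one. -/
theorem eq_trivChar_of_charKer_eq_top {χ : IrrCharacter G} (h : charKer χ = ⊤) :
    χ = trivChar G := by
  classical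
  by_contra hne
  have h0 := classInner_irr χ (trivChar G)
  rw [if_neg hne] at h0
  have hval : ∀ g : G, (χ : G → ℂ) g = (χ : G → ℂ) 1 := fun g =>
    mem_charKer.mp (h ▸ Subgroup.mem_top g)
  simp only [Cfsg.classInner, trivChar_apply, map_one, mul_one, hval, Finset.sum_const,
    Finset.card_univ, nsmul_eq_mul, ← mul_assoc, Nat.card_eq_fintype_card] at h0
  rw [inv_mul_cancel₀ (Nat.cast_ne_zero.mpr Fintype.card_ne_zero), one_mul] at h0
  exact irr_one_ne_zero χ.2 h0

open Classical in
/-- The sum of an irreducible character over a normal subgroup not in its kernel vanishes. -/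
theorem sum_normal_eq_zero (N : Subgroup G) [N.Normal] (χ : IrrCharacter G)
    (h : ¬ N ≤ charKer χ) : ∑ g : G, (if g ∈ N then (χ : G → ℂ) g else 0) = 0 := by
  obtain ⟨n, ρ, hρ, hχ⟩ := χ.2
  obtain ⟨k, hk, hkne⟩ := SetLike.not_le_iff_exists.mp h
  set S : (Fin n → ℂ) →ₗ[ℂ] (Fin n → ℂ) := ∑ g : G, if g ∈ N then ρ g else 0 with hS
  have hcomm : ∀ (x : G) (v : Fin n → ℂ), S (ρ x v) = ρ x (S v) := by
    intro x v
    have : S * ρ x = ρ x * S := by
      rw [hS, Finset.sum_mul, Finset.mul_sum]
      refine Fintype.sum_equiv (MulAut.conj x⁻¹).toEquiv _ _ fun g => ?_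
      have hmem : (MulAut.conj x⁻¹).toEquiv g ∈ N ↔ g ∈ N := by
        simp only [MulEquiv.toEquiv_eq_coe, EquivLike.coe_coe, MulAut.conj_apply, inv_inv]
        exact ⟨fun h1 => by simpa [mul_assoc] using Subgroup.Normal.conj_mem ‹_› _ h1 x,
          fun h1 => Subgroup.Normal.conj_mem' ‹_› _ h1 x⟩
      simp only [hmem]
      split_ifs with hg
      · simp [← map_mul, mul_assoc]
      · simp
    exact DFunLike.congr_fun this v
  obtain ⟨c, hc⟩ := schur_scalar ρ S hcomm
  have hkS : ρ k * S = S := by
    rw [hS, Finset.mul_sum]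
    refine Fintype.sum_equiv (Equiv.mulLeft k) _ _ fun g => ?_
    simp only [Equiv.coe_mulLeft, N.mul_mem_cancel_left hk]
    split_ifs with hg
    · rw [map_mul]
    · simp
  by_cases hc0 : c = 0
  · have htr := congrArg (LinearMap.trace ℂ (Fin n → ℂ)) hc
    rw [hS, map_sum, hc0, zero_smul, map_zero] at htr
    refine Eq.trans (Finset.sum_congr rfl fun g _ => ?_) htr
    rw [← hχ]
    split_ifs
    · rfl
    · simp
  · exfalso
    apply hkne
    have hone : ρ k = 1 := by
      refine LinearMap.ext fun v => ?_
      have h1 := DFunLike.congr_fun hkS v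
      rw [Module.End.mul_apply, hc] at h1
      simp only [LinearMap.smul_apply, LinearMap.id_apply, map_smul] at h1
      exact smul_right_injective _ hc0 h1
    rw [mem_charKer, ← hχ, Representation.character, hone, ← map_one ρ]
    rfl

theorem degree_dvd_index (N : Subgroup G) [N.Normal] (χ : IrrCharacter G) (h : N ≤ charKer χ) :
    ∃ d : ℕ, (χ : G → ℂ) 1 = d ∧ d ∣ N.index := by
  obtain ⟨n, ρ, hρ, hχ⟩ := χ.2
  have hker : N ≤ MonoidHom.ker ρ := by
    intro x hx
    rw [MonoidHom.mem_ker]
    refine rep_eq_one_of_char_eq ρ ?_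
    rw [hχ]; exact mem_charKer.mp (h hx)
  let σ : Representation ℂ (G ⧸ N) (Fin n → ℂ) := QuotientGroup.lift N ρ hker
  haveI : Finite (G ⧸ N) := inferInstance
  letI := Fintype.ofFinite (G ⧸ N)
  haveI : σ.IsIrreducible := by
    haveI := nontrivial_of_isIrreducible ρ
    refine isIrreducible_of_forall σ fun U hU => ?_
    let T : Subrepresentation ρ :=
      ⟨U, fun g v hv => hU (QuotientGroup.mk g) v hv⟩
    rcases hρ.eq_bot_or_eq_top T with hT | hT
    · exact Or.inl (congrArg Subrepresentation.toSubmodule hT)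
    · exact Or.inr (congrArg Subrepresentation.toSubmodule hT)
  refine ⟨n, by rw [← hχ, Representation.char_one]; simp, ?_⟩
  have := finrank_dvd_card σ
  simpa [Subgroup.index] using this

end CfsgLib.PrincipalBlock
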