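import Cfsg.Agent.Blocks.GroupAlgebra
import Mathlib.GroupTheory.PGroup
import Mathlib.RingTheory.Nilpotent.Defs
import Mathlib.LinearAlgebra.FiniteDimensional.Defs
import Mathlib.GroupTheory.FiniteAbelian.Basic

/-!
# Central elements with vanishing coset sums are nilpotent

Over a field of characteristic `p`: if `L = K ⊔ P` is normal, `P` a `p`-group, and the coefficient sums of
a central element over the cosets of `L` vanish, then its product with the indicator of the normal
`p'`-subgroup `K` is nilpotent.  Also: orbit cancellation for sums invariant under a `p`-group.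
-/

set_option autoImplicit false
set_option linter.unusedSectionVars false

namespace CfsgLib.PrincipalBlock

open CfsgLib.Blocks

universe u v

/-- A sum over a `p`-group set without fixed points of an invariant function vanishes mod `p`. -/
theorem sum_eq_zero_of_no_fixed {p : ℕ} [Fact p.Prime] {k : Type v} [CommRing k] [CharP k p]
    {A : Type*} [Group A] (hA : IsPGroup p A) {α : Type*} [MulAction A α] [Fintype α]
    (f : α → k) (hf : ∀ (a : A) (x : α), f x ≠ 0 → f (a • x) = f x)
    (hfix : ∀ x : α, f x ≠ 0 → ∃ a : A, a • x ≠ x) : ∑ x : α, f x = 0 := by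
  classical
  have hiff : ∀ (v : k), v ≠ 0 → ∀ (a : A) (x : α), f x = v → f (a • x) = v := fun v hv a x h =>
    (hf a x (h ▸ hv)).trans h
  rw [← Finset.sum_fiberwise_of_maps_to (s := Finset.univ) (t := Finset.univ.image f) (g := f)
    (fun x _ => Finset.mem_image_of_mem f (Finset.mem_univ x))]
  refine Finset.sum_eq_zero fun v _ => ?_
  by_cases hv : v = 0
  · exact Finset.sum_eq_zero fun x hx => (Finset.mem_filter.mp hx).2.trans hv
  · let act : MulAction A {x : α // f x = v} :=
      { smul := fun a x => ⟨a • x.1, hiff v hv a x.1 x.2⟩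
        one_smul := fun x => Subtype.ext (one_smul A x.1)
        mul_smul := fun a b x => Subtype.ext (mul_smul a b x.1) }
    letI := act
    have h := hA.card_modEq_card_fixedPoints {x : α // f x = v}
    have h0 : Nat.card (MulAction.fixedPoints A {x : α // f x = v}) = 0 := by
      haveI : IsEmpty (MulAction.fixedPoints A {x : α // f x = v}) := ⟨fun ⟨x, hx⟩ => by
        obtain ⟨a, ha⟩ := hfix x.1 (x.2.symm ▸ hv)
        exact ha (congrArg Subtype.val (hx a))⟩
      exact Nat.card_of_isEmpty
    rw [h0] at h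
    rw [Finset.sum_congr rfl (fun x hx => (Finset.mem_filter.mp hx).2), Finset.sum_const,
      nsmul_eq_mul]
    have : ((Finset.univ.filter fun x => f x = v).card : k) = 0 := by
      rw [CharP.cast_eq_zero_iff k p, ← Fintype.card_subtype, ← Nat.card_eq_fintype_card]
      exact Nat.modEq_zero_iff_dvd.mp h
    rw [this, zero_mul]

variable {G : Type u} [Group G] [Fintype G] {k : Type v} [Field k] {p : ℕ} [Fact p.Prime]
  [CharP k p]

/-- A `p`-group acting linearly on a nonzero vector space in characteristic `p` fixes a nonzero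
vector. -/
theorem exists_fixed_ne_zero {P : Subgroup G} (hP : IsPGroup p P)
    (W : Submodule k (MonoidAlgebra k G)) (hW : W ≠ ⊥)
    (hPW : ∀ x ∈ P, ∀ w ∈ W, MonoidAlgebra.single x (1 : k) * w ∈ W) :
    ∃ w ∈ W, w ≠ 0 ∧ ∀ x ∈ P, MonoidAlgebra.single x (1 : k) * w = w := by
  classical
  obtain ⟨v, hvW, hv⟩ := (Submodule.ne_bot_iff _).mp hW
  let S := AddSubgroup.closure
    (Set.range fun x : P => MonoidAlgebra.single (x : G) (1 : k) * v)
  have hSW : ∀ w ∈ S, w ∈ W := fun w hw =>
    (AddSubgroup.closure_le (K := W.toAddSubgroup)).mpr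
      (by rintro _ ⟨x, rfl⟩; exact hPW x x.2 v hvW) hw
  have htor : ∀ w : MonoidAlgebra k G, p • w = 0 := fun w => by
    rw [← Nat.cast_smul_eq_nsmul k, CharP.cast_eq_zero, zero_smul]
  haveI : AddGroup.FG S := (AddGroup.fg_iff_addSubgroup_fg S).mpr
    ⟨(Set.finite_range _).toFinset, by rw [Set.Finite.coe_toFinset]⟩
  have hfin : Finite S := AddCommGroup.finite_of_fg_isAddTorsion S fun w =>
    isOfFinAddOrder_iff_nsmul_eq_zero.mpr ⟨p, (Fact.out : p.Prime).pos, Subtype.ext (htor _)⟩
  have hvS : v ∈ S := AddSubgroup.subset_closure ⟨1, by simp [← MonoidAlgebra.one_def]⟩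
  have hSP : ∀ (x : P), ∀ w ∈ S, MonoidAlgebra.single (x : G) (1 : k) * w ∈ S := by
    intro x w hw
    induction hw using AddSubgroup.closure_induction with
    | mem w hw =>
      obtain ⟨y, rfl⟩ := hw
      refine AddSubgroup.subset_closure ⟨x * y, ?_⟩
      simp [← mul_assoc, MonoidAlgebra.single_mul_single]
    | zero => simp
    | add a b _ _ ha hb => rw [mul_add]; exact add_mem ha hb
    | neg a _ ha => rw [mul_neg]; exact neg_mem ha
  let act : MulAction P S :=
    { smul := fun x w => ⟨MonoidAlgebra.single (x : G) (1 : k) * w, hSP x w w.2⟩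
      one_smul := fun w => Subtype.ext (by
        show MonoidAlgebra.single ((1 : P) : G) (1 : k) * (w : MonoidAlgebra k G) = w
        simp [← MonoidAlgebra.one_def])
      mul_smul := fun x y w => Subtype.ext (by
        show MonoidAlgebra.single ((x * y : P) : G) (1 : k) * (w : MonoidAlgebra k G) =
          MonoidAlgebra.single (x : G) (1 : k) * (MonoidAlgebra.single (y : G) (1 : k) * w)
        simp [← mul_assoc, MonoidAlgebra.single_mul_single]) }
  letI := act
  have hp : p ∣ Nat.card S := by
    have h1 : addOrderOf (⟨v, hvS⟩ : S) = p :=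
      addOrderOf_eq_prime (Subtype.ext (htor v)) (fun h => hv (congrArg Subtype.val h))
    exact h1 ▸ addOrderOf_dvd_natCard _
  have h0 : (0 : S) ∈ MulAction.fixedPoints P S := fun x => Subtype.ext (by
    show MonoidAlgebra.single (x : G) (1 : k) * (0 : MonoidAlgebra k G) = 0
    simp)
  obtain ⟨b, hb, hb0⟩ := hP.exists_fixed_point_of_prime_dvd_card_of_fixed_point S hp h0
  refine ⟨b, hSW b b.2, fun h => hb0 (Subtype.ext h.symm), fun x hx => ?_⟩
  exact congrArg Subtype.val (hb ⟨x, hx⟩)

open Classical in
/-- The indicator of a subgroup in the group algebra. -/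
noncomputable def indOf (k : Type*) [CommRing k] (K : Subgroup G) : MonoidAlgebra k G :=
  ∑ x : G, if x ∈ K then MonoidAlgebra.single x (1 : k) else 0

open Classical in
theorem coeff_indOf {R : Type*} [CommRing R] (K : Subgroup G) (g : G) :
    (indOf R K).coeff g = if g ∈ K then 1 else 0 := by
  rw [indOf, MonoidAlgebra.coeff_sum, Finsupp.finsetSum_apply, Finset.sum_eq_single g]
  · split_ifs <;> simp
  · intro b _ hb
    split_ifs <;> simp [hb]
  · simp

theorem indOf_mem_ctr {R : Type*} [CommRing R] (K : Subgroup G) [K.Normal] : indOf R K ∈ Ctr R G :=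
  mem_ctr_iff.mpr fun g h => by
    classical
    rw [coeff_indOf, coeff_indOf]
    refine if_congr ⟨fun h1 => ?_, fun h1 => Subgroup.Normal.conj_mem ‹_› _ h1 h⟩ rfl rfl
    simpa [mul_assoc] using Subgroup.Normal.conj_mem' ‹_› _ h1 h

theorem single_mul_indOf {R : Type*} [CommRing R] {K : Subgroup G} {x : G} (hx : x ∈ K) :
    MonoidAlgebra.single x (1 : R) * indOf R K = indOf R K := by
  classical
  ext g
  rw [MonoidAlgebra.coeff_single_mul_apply, one_mul, coeff_indOf, coeff_indOf]
  exact if_congr (K.mul_mem_cancel_left (K.inv_mem hx)) rfl rfl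

open Classical in
/-- A central element whose coset sums over `L = K ⊔ P` vanish becomes nilpotent on multiplying by
the indicator of `K`. -/
theorem isNilpotent_mul_indOf (K P L : Subgroup G) [K.Normal] [L.Normal] (hP : IsPGroup p P)
    (hL : L ≤ K ⊔ P) {a : MonoidAlgebra k G} (ha : a ∈ Ctr k G)
    (hsum : ∀ x : G, ∑ g : G, (if x⁻¹ * g ∈ L then a.coeff g else 0) = 0) :
    IsNilpotent (a * indOf k K) := by
  set b := a * indOf k K with hb
  have hbc : b ∈ Ctr k G := mul_mem ha (indOf_mem_ctr K)
  let T : MonoidAlgebra k G →ₗ[k] MonoidAlgebra k G := LinearMap.mulLeft k b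
  haveI : Module.Finite k (MonoidAlgebra k G) := inferInstance
  obtain ⟨n, hn⟩ := monotone_stabilizes_iff_noetherian.mpr
    (inferInstance : IsNoetherian k (MonoidAlgebra k G)) (LinearMap.iterateKer T)
  refine ⟨n + 1, ?_⟩
  by_contra hne
  set W := LinearMap.range (T ^ (n + 1)) with hW
  have hmem : ∀ w, w ∈ W ↔ ∃ v, b ^ (n + 1) * v = w := by
    intro w
    simp [hW, T, LinearMap.pow_mulLeft]
  have hWbot : W ≠ ⊥ := fun h => hne (by
    have : b ^ (n + 1) * 1 ∈ W := (hmem _).mpr ⟨1, rfl⟩
    rw [h, Submodule.mem_bot, mul_one] at this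
    exact this)
  have hcc : ∀ w, b ^ (n + 1) * w = w * b ^ (n + 1) := fun w =>
    (Subring.mem_center_iff.mp (pow_mem hbc _) w).symm
  obtain ⟨w, hwW, hw0, hwfix⟩ := exists_fixed_ne_zero (p := p) hP W hWbot (by
    intro x _ w hw
    obtain ⟨v, rfl⟩ := (hmem w).mp hw
    refine (hmem _).mpr ⟨MonoidAlgebra.single x 1 * v, ?_⟩
    rw [← mul_assoc, hcc, mul_assoc])
  obtain ⟨v, rfl⟩ := (hmem w).mp hwW
  set w := b ^ (n + 1) * v with hwdef
  have hKfix : ∀ x ∈ K, MonoidAlgebra.single x (1 : k) * w = w := by
    intro x hx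
    have hbx : MonoidAlgebra.single x (1 : k) * b = b := by
      rw [hb, (Subring.mem_center_iff.mp ha (indOf k K)).symm, ← mul_assoc,
        single_mul_indOf hx]
    rw [hwdef, pow_succ', ← mul_assoc, ← mul_assoc, hbx]
  have hLfix : ∀ x ∈ L, MonoidAlgebra.single x (1 : k) * w = w := by
    intro x hx
    have hx' := hL hx
    rw [← SetLike.mem_coe, Subgroup.normal_mul] at hx'
    obtain ⟨c, hc, d, hd, rfl⟩ := hx'
    rw [← mul_one (1 : k), ← MonoidAlgebra.single_mul_single, mul_assoc, hwfix d hd, hKfix c hc]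
  have hsplit : ∀ y : MonoidAlgebra k G, y = ∑ g : G, MonoidAlgebra.single g (y.coeff g) := by
    intro y
    ext g
    rw [MonoidAlgebra.coeff_sum, Finsupp.finsetSum_apply, Finset.sum_eq_single g]
    · simp
    · intro b _ hb; simp [hb]
    · simp
  have hsingle : ∀ (g : G) (r : k), MonoidAlgebra.single g r * w =
      r • (MonoidAlgebra.single g 1 * w) := by
    intro g r
    rw [← smul_mul_assoc, MonoidAlgebra.smul_single, smul_eq_mul, mul_one]
  have haw : a * w = 0 := by
    rw [hsplit a, Finset.sum_mul, Finset.sum_congr rfl fun g _ => hsingle g (a.coeff g)]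
    rw [← Finset.sum_fiberwise Finset.univ (fun g => (QuotientGroup.mk g : G ⧸ L))]
    refine Finset.sum_eq_zero fun q _ => ?_
    obtain ⟨x, rfl⟩ := QuotientGroup.mk_surjective q
    rw [Finset.sum_congr rfl (g := fun g => a.coeff g • (MonoidAlgebra.single x (1 : k) * w))]
    · rw [← Finset.sum_smul]
      refine smul_eq_zero_of_left ?_ _
      rw [Finset.sum_filter]
      refine Eq.trans (Finset.sum_congr rfl fun g _ => if_congr ?_ rfl rfl) (hsum x)
      rw [eq_comm, QuotientGroup.eq]
    · intro g hg
      have h1 := QuotientGroup.eq.mp (Finset.mem_filter.mp hg).2.symm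
      congr 1
      calc MonoidAlgebra.single g (1 : k) * w
          = MonoidAlgebra.single x 1 * MonoidAlgebra.single (x⁻¹ * g) 1 * w := by
            rw [MonoidAlgebra.single_mul_single, mul_inv_cancel_left, mul_one]
        _ = _ := by rw [mul_assoc, hLfix _ h1]
  have hbw : b * w = 0 := by
    rw [hb, ← Subring.mem_center_iff.mp ha (indOf k K), mul_assoc, haw, mul_zero]
  have hTw : v ∈ LinearMap.ker (T ^ (n + 2)) := by
    rw [LinearMap.mem_ker]
    simp only [T, LinearMap.pow_mulLeft, LinearMap.mulLeft_apply]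
    rw [pow_succ', mul_assoc]; exact hbw
  have h1 := hn (n + 2) (by omega)
  have h2 := hn (n + 1) (by omega)
  have : v ∈ LinearMap.ker (T ^ (n + 1)) := by
    have e : LinearMap.ker (T ^ (n + 1)) = LinearMap.ker (T ^ (n + 2)) := by
      have := h2.symm.trans h1; exact this
    rw [e]; exact hTw
  rw [LinearMap.mem_ker] at this
  apply hw0
  simpa [T, LinearMap.pow_mulLeft, hwdef] using this

end CfsgLib.PrincipalBlock
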