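import Cfsg.Agent.Blocks.Idempotent
import Cfsg.Agent.PrincipalBlock.Kernel
import Cfsg.Agent.PrincipalBlock.Nilpotent

/-!
# The principal block

`principalBlock_eq`, `sum_blockCoeff`, `le_charKer_of_mem` (kernel contains normal `p'`-subgroups),
`not_dvd_card_setKer` (the block kernel has order prime to `p`) and `mem_principalBlock_of_ker`
(constrained situation: one block).
-/

set_option autoImplicit false
set_option linter.unusedSectionVars false

namespace CfsgLib.PrincipalBlock

open Cfsg CfsgLib.Blocks CfsgLib.Characters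

universe u

variable {G : Type u} [Group G] [Fintype G] {M : Ideal AlgInt} {p : ℕ}

theorem principalBlock_eq :
    Cfsg.principalBlock M G = Cfsg.blockOf M ((trivChar G : IrrCharacter G) : G → ℂ) := rfl

theorem omega_trivChar (z : Ctr ℂ G) :
    omega (trivChar G) z = ∑ g : G, (z : MonoidAlgebra ℂ G).coeff g := by
  simp [omega_apply]

variable [M.IsPrime]

theorem isPBlock_principalBlock : Cfsg.IsPBlock M (Cfsg.principalBlock M G) :=
  isPBlock_blockOf (trivChar G)

theorem trivChar_mem : trivChar G ∈ Cfsg.principalBlock M G :=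
  (principalBlock_eq (M := M) (G := G)).symm ▸ mem_blockOf_self (M := M) (trivChar G)

theorem mem_principalBlock_iff {χ : IrrCharacter G} :
    χ ∈ Cfsg.principalBlock M G ↔ omegaBar M χ = omegaBar M (trivChar G) := by
  rw [principalBlock_eq, mem_blockOf, sameBlock_iff, eq_comm]

theorem omegaBar_trivChar (z : Ctr (Res M) G) :
    omegaBar M (trivChar G) z = ∑ g : G, (z : MonoidAlgebra (Res M) G).coeff g := by
  obtain ⟨a, rfl⟩ := redCtr_surjective z
  rw [omegaBar_redCtr]
  have h : omegaO M (trivChar G) a = ∑ g : G, (a : MonoidAlgebra (localRing M) G).coeff g := by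
    refine Subtype.ext ?_
    rw [coe_omegaO, omega_trivChar, AddSubmonoidClass.coe_finsetSum]
    exact Finset.sum_congr rfl fun g _ => by simp [toC]
  rw [h, map_sum]
  exact Finset.sum_congr rfl fun g _ => by simp [redCtr]

theorem memLocalRing_principalCoeff (g : G) :
    Cfsg.MemLocalRing M (Cfsg.blockCoeff (Cfsg.principalBlock M G) g) :=
  memLocalRing_blockCoeff (isBlockUnion_of_isPBlock isPBlock_principalBlock) g

/-- The coefficients of the principal block idempotent add up to one. -/
theorem sum_blockCoeff : ∑ g : G, Cfsg.blockCoeff (Cfsg.principalBlock M G) g = 1 := by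
  classical
  have := omega_setIdemC (Cfsg.principalBlock M G) (trivChar G)
  rw [if_pos trivChar_mem, omega_trivChar] at this
  simpa using this

/-- The kernel of the principal block has order prime to `p`. -/
theorem not_dvd_card_setKer (hM : Cfsg.IsPModular p M) :
    ¬ p ∣ Nat.card (setKer (Cfsg.principalBlock M G)) := by
  classical
  intro hd
  set B := Cfsg.principalBlock M G with hB
  set K := setKer B with hK
  have hcoset : ∀ x k : G, k ∈ K → Cfsg.blockCoeff B (x * k) = Cfsg.blockCoeff B x := by
    intro x k hk
    simp only [blockCoeff_eq_sum]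
    refine congrArg _ (Finset.sum_congr rfl fun χ _ => ?_)
    split_ifs with hχ
    · rw [apply_mul_of_eq_one χ (mem_setKer.mp hk χ hχ)]
    · rfl
  have h1 := sum_blockCoeff (M := M) (G := G)
  rw [← hB, ← Finset.sum_fiberwise Finset.univ (fun g => (QuotientGroup.mk g : G ⧸ K))] at h1
  refine not_memLocalIdeal_one (M := M) (h1 ▸ memLocalIdeal_sum _ fun q _ => ?_)
  obtain ⟨x, rfl⟩ := QuotientGroup.mk_surjective q
  rw [Finset.sum_congr rfl (g := fun _ => Cfsg.blockCoeff B x), Finset.sum_const, nsmul_eq_mul]
  · refine memLocalIdeal_mul_right ?_ (memLocalRing_principalCoeff x)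
    rw [memLocalIdeal_natCast_iff hM]
    refine dvd_trans hd (dvd_of_eq ?_)
    rw [← Fintype.card_subtype, ← Nat.card_eq_fintype_card]
    exact Nat.card_congr ⟨fun k => ⟨x * k, QuotientGroup.eq.mpr (by simp)⟩,
      fun g => ⟨x⁻¹ * g.1, QuotientGroup.eq.mp g.2.symm⟩,
      fun k => Subtype.ext (inv_mul_cancel_left x k.1),
      fun g => Subtype.ext (mul_inv_cancel_left x g.1)⟩
  · intro g hg
    rw [← mul_inv_cancel_left x g]
    exact hcoset x _ (QuotientGroup.eq.mp (Finset.mem_filter.mp hg).2.symm)

open Classical in
theorem omegaBar_indOf (N : Subgroup G) [N.Normal] (χ : IrrCharacter G) :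
    omegaBar M χ ⟨indOf (Res M) N, indOf_mem_ctr N⟩ =
      if N ≤ charKer χ then (Nat.card N : Res M) else 0 := by
  let a : Ctr (localRing M) G := ⟨indOf (localRing M) N, indOf_mem_ctr N⟩
  have hred : redCtr M a = ⟨indOf (Res M) N, indOf_mem_ctr N⟩ := ctr_ext fun g => by
    rw [redCtr, coeff_mapCtr]
    show red M ((indOf (localRing M) N).coeff g) = (indOf (Res M) N).coeff g
    rw [coeff_indOf, coeff_indOf, apply_ite (red M), map_one, map_zero]
  have hval : (omegaO M χ a : ℂ) = if N ≤ charKer χ then (Nat.card N : ℂ) else 0 := by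
    rw [coe_omegaO, omega_apply, Finset.sum_congr rfl
      (g := fun g => if g ∈ N then (χ : G → ℂ) g else 0)]
    · split_ifs with h
      · rw [← Finset.sum_filter, Finset.sum_congr rfl fun g hg =>
          mem_charKer.mp (h (Finset.mem_filter.mp hg).2), Finset.sum_const, nsmul_eq_mul,
          mul_div_cancel_right₀ _ (irr_one_ne_zero χ.2), ← Fintype.card_subtype,
          Nat.card_eq_fintype_card]
      · rw [sum_normal_eq_zero N χ h, zero_div]
    · intro g _
      rw [toC, coeff_mapCtr]
      show ((indOf (localRing M) N).coeff g : ℂ) * _ = _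
      rw [coeff_indOf]
      split_ifs <;> simp
  rw [← hred, omegaBar_redCtr]
  split_ifs with h
  · rw [if_pos h] at hval
    rw [← map_natCast (red M)]
    exact congrArg _ (Subtype.ext (by simpa using hval))
  · rw [if_neg h] at hval
    rw [← map_zero (red M)]
    exact congrArg _ (Subtype.ext hval)

/-- Characters in the principal block are trivial on normal `p'`-subgroups. -/
theorem le_charKer_of_mem (hM : Cfsg.IsPModular p M) (N : Subgroup G) [N.Normal]
    (hN : ¬ p ∣ Nat.card N) {χ : IrrCharacter G} (hχ : χ ∈ Cfsg.principalBlock M G) :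
    N ≤ charKer χ := by
  classical
  by_contra hne
  have h := congrArg (fun f => f (⟨indOf (Res M) N, indOf_mem_ctr N⟩ : Ctr (Res M) G))
    (mem_principalBlock_iff.mp hχ)
  simp only [omegaBar_indOf, if_neg hne] at h
  rw [if_pos (show N ≤ charKer (trivChar G) from fun x _ => mem_charKer.mpr rfl)] at h
  exact hN ((red_natCast_eq_zero_iff hM _).mp h.symm)

/-- One block: if `L = K P` is normal with `K` a normal `p'`-subgroup, `P` a `p`-group and
`C_G(P) ≤ L`, every irreducible character trivial on `K` lies in the principal block. -/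
theorem mem_principalBlock_of_ker (hM : Cfsg.IsPModular p M) (K P L : Subgroup G) [K.Normal]
    [L.Normal] (hK : ¬ p ∣ Nat.card K) (hP : IsPGroup p P) (hKL : K ⊔ P = L)
    (hC : Subgroup.centralizer (P : Set G) ≤ L) {χ : IrrCharacter G} (hχ : K ≤ charKer χ) :
    χ ∈ Cfsg.principalBlock M G := by
  classical
  haveI : Fact p.Prime := ⟨hM.1⟩
  haveI := charP_res hM
  rw [mem_principalBlock_iff]
  refine omegaBar_ext (omegaBar_scalar χ) (omegaBar_scalar _) fun C => ?_
  obtain ⟨g, rfl⟩ := ConjClasses.mk_surjective C
  set c := classSum (Res M) (ConjClasses.mk g) with hc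
  -- the part of the class sum concentrated at the identity
  set r : Res M := if g ∈ L then ∑ x : G, (c : MonoidAlgebra (Res M) G).coeff x else 0 with hr
  set a := c - scalar r with ha
  have hsum : ∀ x : G, ∑ y : G, (if x⁻¹ * y ∈ L then
      (a : MonoidAlgebra (Res M) G).coeff y else 0) = 0 := by
    intro x
    have hsc : ∀ y : G, ((scalar r : Ctr (Res M) G) : MonoidAlgebra (Res M) G).coeff y =
        if y = 1 then r else 0 := fun y => by
      rw [coe_scalar]
      split_ifs with h
      · simp [h]
      · simp [h]
    simp only [ha, AddSubgroupClass.coe_sub, MonoidAlgebra.coeff_sub, Finsupp.sub_apply, hsc]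
    by_cases hgL : g ∈ L
    · have hcL : ∀ y, (c : MonoidAlgebra (Res M) G).coeff y ≠ 0 → y ∈ L := by
        intro y hy
        rw [hc, coeff_classSum] at hy
        by_contra hn
        rw [if_neg] at hy
        · exact hy rfl
        · intro he
          obtain ⟨z, hz⟩ := isConj_iff.mp (ConjClasses.mk_eq_mk_iff_isConj.mp he)
          apply hn
          have := Subgroup.Normal.conj_mem' ‹L.Normal› g hgL z
          rw [← hz] at this
          simpa [mul_assoc] using this
      by_cases hx : x ∈ L
      · have h1 : ∀ y, (if x⁻¹ * y ∈ L then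
            (c : MonoidAlgebra (Res M) G).coeff y - (if y = 1 then r else 0) else 0) =
            (c : MonoidAlgebra (Res M) G).coeff y - (if y = 1 then r else 0) := by
          intro y
          by_cases hxy : x⁻¹ * y ∈ L
          · rw [if_pos hxy]
          · rw [if_neg hxy, if_neg (by
              rintro rfl
              exact hxy (mul_mem (L.inv_mem hx) L.one_mem)), sub_zero]
            by_contra hne
            exact hxy (mul_mem (L.inv_mem hx) (hcL y (Ne.symm hne)))
        rw [Finset.sum_congr rfl fun y _ => h1 y, Finset.sum_sub_distrib, Finset.sum_ite_eq']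
        simp [hr, hgL]
      · refine Finset.sum_eq_zero fun y _ => ?_
        split_ifs with hxy hy1
        · exfalso; apply hx
          rw [hy1, mul_one] at hxy
          exact L.inv_mem_iff.mp hxy
        · rw [sub_zero]
          by_contra hne
          exact hx (by simpa using mul_mem (hcL y hne) (L.inv_mem hxy))
        · rfl
    · simp only [hr, if_neg hgL, ite_self, sub_zero]
      refine sum_eq_zero_of_no_fixed (p := p) (hP.map ConjAct.toConjAct.toMonoidHom) _ ?_ ?_
      · rintro ⟨_, z, hz, rfl⟩ y hne
        have hxy : x⁻¹ * y ∈ L := by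
          by_contra hn; exact hne (if_neg hn)
        have hzL : z ∈ L := hKL ▸ Subgroup.mem_sup_right hz
        show (if x⁻¹ * (z * y * z⁻¹) ∈ L then _ else _) = _
        have h2 : x⁻¹ * (z * y * z⁻¹) ∈ L := by
          have h3 : y⁻¹ * z * y * z⁻¹ ∈ L :=
            mul_mem (Subgroup.Normal.conj_mem' ‹L.Normal› z hzL y) (L.inv_mem hzL)
          have := mul_mem hxy h3
          have e : x⁻¹ * y * (y⁻¹ * z * y * z⁻¹) = x⁻¹ * (z * y * z⁻¹) := by group
          rwa [e] at this
        rw [if_pos h2, if_pos hxy]
        exact coeff_conj_of_mem_ctr c.2 y z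
      · intro y hne
        by_contra hall
        push Not at hall
        have hyC : y ∈ Subgroup.centralizer (P : Set G) := by
          rw [Subgroup.mem_centralizer_iff]
          intro z hz
          have h : z * y * z⁻¹ = y := hall ⟨_, z, hz, rfl⟩
          rwa [mul_inv_eq_iff_eq_mul] at h
        have hyc : (c : MonoidAlgebra (Res M) G).coeff y = 0 := by
          rw [hc, coeff_classSum, if_neg]
          intro he
          obtain ⟨z, hz⟩ := isConj_iff.mp (ConjClasses.mk_eq_mk_iff_isConj.mp he)
          exact hgL (hz ▸ Subgroup.Normal.conj_mem ‹L.Normal› y (hC hyC) z)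
        exact hne (by simp [hyc])
  have hnil : IsNilpotent (a * ⟨indOf (Res M) K, indOf_mem_ctr K⟩ : Ctr (Res M) G) := by
    obtain ⟨n, hn⟩ := isNilpotent_mul_indOf (p := p) K P L hP (le_of_eq hKL.symm) a.2 hsum
    exact ⟨n, Subtype.ext hn⟩
  have hlam : ∀ ψ : IrrCharacter G, K ≤ charKer ψ → omegaBar M ψ c = r := by
    intro ψ hψ
    have h := (hnil.map (omegaBar M ψ)).eq_zero
    rw [map_mul, omegaBar_indOf, if_pos hψ, mul_eq_zero,
      red_natCast_eq_zero_iff hM, or_iff_left hK, ha, map_sub, omegaBar_scalar, sub_eq_zero] at h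
    exact h
  rw [hlam χ hχ, hlam (trivChar G) fun x _ => mem_charKer.mpr rfl]

end CfsgLib.PrincipalBlock
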